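import Groth.Agent.Pic13Lib.Hodge.Inter
import Groth.Agent.Pic13Lib.NumTrivBC
import Groth.Agent.BigConeLib.Basic
import Groth.Agent.AmpleX.Generated

/-!
# Intersection with ample classes on `N¹(X)_ℝ`
-/

set_option autoImplicit false
set_option linter.style.haveILetI false
set_option linter.unusedSectionVars false
set_option backward.isDefEq.respectTransparency false
set_option backward.isDefEq.respectTransparency.types false
set_option maxHeartbeats 1000000

universe u

open CategoryTheory CategoryTheory.Limits AlgebraicGeometry TopologicalSpace TensorProduct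
open Groth.Agent.H23 Groth.Agent.H23.PicMul Groth.Agent.H23.TrivBasic
open Groth.Agent.H23.IntNumCycle (alt)

noncomputable section

namespace Groth.Agent.PsefCpt

attribute [local instance] PicMul.clMonoid

variable (k : Type u) [Field k] {X : Scheme.{u}} [X.Over (Spec (CommRingCat.of k))]
  [IsProper (X ↘ Spec (CommRingCat.of k))]

/-- The number `(L · M₁ ⋯ M_r)`, with its sign. -/
def num {r : ℕ} (M : Fin r → X.Modules) (L : X.Modules) : ℤ :=
  (-1 : ℤ) ^ (r + 1) * alt k (r + 1) (Fin.cons L M) (Coh.structureModule X)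

theorem num_congr {r : ℕ} (M : Fin r → X.Modules) {L L' : X.Modules} (h : PicF.cl L = PicF.cl L') :
    num k M L = num k M L' := by
  rw [num, num, IntAlt.alt_congr_cl k (M' := Fin.cons L' M) fun i => by
    induction i using Fin.cases with
    | zero => simpa using h
    | succ i => simp]

theorem num_tensor {r : ℕ} (hd : topologicalKrullDim X ≤ ((r + 1 : ℕ) : WithBot ℕ∞)) {M : Fin r → X.Modules}
    (hM : ∀ i, PicF.IsInvertible (M i)) {L L' : X.Modules} (hL : PicF.IsInvertible L) (hL' : PicF.IsInvertible L') :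
    num k M (CohB1.tensorMod L L') = num k M L + num k M L' := by
  rw [num, num, num, TopInt.alt_cons_mul k hM hL hL' (TopInt.cohLe_structure k hd), mul_add]

/-- A product of invertible classes is the class of an invertible module. -/
theorem exists_cl_prod {ι : Type*} (I : Finset ι) (M : ι → X.Modules) (hM : ∀ i, PicF.IsInvertible (M i)) :
    ∃ P : X.Modules, PicF.IsInvertible P ∧ PicF.cl P = ∏ i ∈ I, PicF.cl (M i) := by
  classical
  induction I using Finset.induction with
  | empty => exact ⟨Coh.structureModule X, InvX.isInvertible_structureModule, by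
      rw [Finset.prod_empty, PicMul.one_def]⟩
  | insert a s ha ih =>
    obtain ⟨P, hP, e⟩ := ih
    exact ⟨CohB1.tensorMod (M a) P, PicMul.isInvertible_tensor (hM a) hP, by
      rw [cl_tensor, e, Finset.prod_insert ha]⟩

theorem num_eq_zero_of_numTriv {r : ℕ} {M : Fin r → X.Modules} (hM : ∀ i, PicF.IsInvertible (M i))
    {L : X.Modules} (hL : PicF.IsInvertible L) (h : Pic13.IsNumEquivZero k X L) : num k M L = 0 := by
  haveI := CurveCohLib.isNoetherian_of_proper (k := k) (X := X)
  rw [num, Pic13Lib.Hodge.alt_cons_eq_zero fun I => ?_, mul_zero]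
  obtain ⟨P, hP, e⟩ := exists_cl_prod I M hM
  rw [← PicMul.one_def, one_mul, one_mul, ← e, mul_comm, ← cl_tensor, SurfPairing.χ_cl, SurfPairing.χ_cl]
  exact Pic13Lib.NumTriv.euler_tensor_nt k ⟨hL, h⟩ (AmpleVan.isCoh_invertible hP)

/-- Effective classes meet ample classes non-negatively. -/
theorem num_nonneg [IsIntegral X] {r : ℕ} (hdim : topologicalKrullDim X = ((r + 1 : ℕ) : WithBot ℕ∞))
    {M : Fin r → X.Modules} (hM : ∀ i, CohB1.IsAmple (M i))
    {L : X.Modules} (hL : PicF.IsInvertible L) (hs : NumR.HasSection L) : 0 ≤ num k M L := by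
  haveI := CurveCohLib.isNoetherian_of_proper (k := k) (X := X)
  obtain ⟨s, hs⟩ := hs
  let t : Γ(L, ⊤) := InvX.one s
  have hts : InvX.ofSect t = s := AVAmple.ofSect_one s
  have ht : t ≠ 0 := fun h => hs (by
    rw [← hts, show t = InvX.one (0 : Coh.structureModule X ⟶ L) from h, AVAmple.ofSect_one])
  let f := InvX.ofSect t
  haveI := CurveAmple.mono_ofSect hL ht
  let S := ShortComplex.mk f (cokernel.π f) (cokernel.condition f)
  have hS : S.ShortExact :=
    .mk' (ShortComplex.exact_of_g_is_cokernel _ (cokernelIsCokernel f)) inferInstance inferInstance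
  have hOc : Coh.IsCoh (Coh.structureModule X) := QCoh.isCoh_structureModule'
  have hLc := AmpleVan.isCoh_invertible hL
  have hQc : Coh.IsCoh (cokernel f) := QCoh.isCoh_cokernel hOc.1 hLc f
  have hgen : genericPoint X ∈ locus t := by
    obtain ⟨z, hz⟩ := (Opens.ne_bot_iff_nonempty _).1 (locus_ne_bot hL ht)
    exact (genericPoint_specializes z).mem_open (locus t).isOpen hz
  have hQ : Cyc.CohLe (SnapLead.δ k) r (cokernel f) := by
    refine ⟨hQc, fun x hx => ?_⟩
    have hxl : x ∉ locus t := CurveAmple.support_cokernel_subset t (not_subsingleton_iff_nontrivial.2 hx)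
    have h := (SnapLead.isDimFun k (genericPoint X) x (genericPoint_specializes x) (fun e => hxl (e ▸ hgen))).1
    rw [TopInt.delta_generic k hdim] at h
    push_cast at h
    omega
  have hfin := IntAlt.finite_sheafFun k hQ
  have hpos : 0 ≤ (-1 : ℤ) ^ r * alt k r M (cokernel f) := by
    have hs : ∀ ξ ∈ hfin.toFinset, SnapLead.δ k ξ = (r : ℤ) := fun ξ hξ =>
      (CycleClassK.nontrivial_of_sheafFun (hfin.mem_toFinset.1 hξ)).1
    rw [IntAlt.alt_eq_sum_closure k (fun i => (hM i).1) hQ hfin.toFinset hs fun ξ h => hfin.mem_toFinset.2 h,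
      Finset.mul_sum]
    refine Finset.sum_nonneg fun ξ hξ => ?_
    rw [← mul_left_comm]
    exact mul_nonneg (CycleClassK.sheafFun_nonneg _ _ _ _) (Pic13Lib.alt_closure_pos_mixed (hs ξ hξ) hM).le
  have hadd := IntNumCycle.alt_add k r M (fun i => (hM i).1) hS hOc hLc hQc
  have hOL : alt k r M (CohB1.tensorMod (Coh.structureModule X) L) = alt k r M L := by
    rw [IntAlt.alt_eq_sum, IntAlt.alt_eq_sum, cl_tensor, ← PicMul.one_def, one_mul]
  rw [num, IntAlt.alt_succ]
  simp only [Fin.cons_zero, Fin.cons_succ]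
  rw [hOL, hadd, pow_succ]
  linarith

theorem alt_swap {r : ℕ} (A B : X.Modules) (R : Fin r → X.Modules) (F : X.Modules) :
    alt k (r + 2) (Fin.cons A (Fin.cons B R)) F = alt k (r + 2) (Fin.cons B (Fin.cons A R)) F := by
  rw [← IntAlt.alt_perm k (Equiv.swap (0 : Fin (r + 2)) 1) (Fin.cons A (Fin.cons B R))]
  congr 1
  funext i
  induction i using Fin.cases with
  | zero => simp
  | succ i => induction i using Fin.cases with
    | zero => simp
    | succ j =>
      rw [Equiv.swap_apply_of_ne_of_ne (Fin.succ_ne_zero _)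
        (by rw [← Fin.succ_zero_eq_one]; exact fun e => Fin.succ_ne_zero j (Fin.succ_injective _ e))]
      simp

/-- Ample classes separate numerical classes. -/
theorem numTriv_of_num_eq_zero [IsIntegral X] {r : ℕ} (hdim : topologicalKrullDim X = ((r + 1 : ℕ) : WithBot ℕ∞))
    {H : X.Modules} (hH : CohB1.IsAmple H) {L : X.Modules} (hL : PicF.IsInvertible L)
    (h : ∀ M : Fin r → X.Modules, (∀ i, CohB1.IsAmple (M i)) → num k M L = 0) :
    Pic13.IsNumEquivZero k X L := by
  have h' : ∀ M : Fin r → X.Modules, (∀ i, CohB1.IsAmple (M i)) →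
      alt k (r + 1) (Fin.cons L M) (Coh.structureModule X) = 0 := fun M hM => by
    simpa [num] using h M hM
  match r with
  | 0 =>
    exact Pic13Lib.Hodge.isNumEquivZero_dim_one (by simpa using hdim) hL (h' _ fun i => i.elim0)
  | s + 1 =>
    have hHs : ∀ i : Fin s, CohB1.IsAmple ((fun _ => H) i) := fun _ => hH
    have hcons : (Fin.cons H fun _ : Fin s => H : Fin (s + 1) → X.Modules) = fun _ => H := by
      funext i
      induction i using Fin.cases <;> simp
    have h1 := h' (fun _ => H) fun _ => hH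
    refine Pic13Lib.Hodge.index_irreducible hdim hH hL h1 ?_
    haveI : CompactSpace X := QuasiCompact.compactSpace_of_compactSpace (X ↘ Spec (CommRingCat.of k))
    haveI : X.IsSeparated := ⟨by
      rw [← Limits.terminal.comp_from (X ↘ Spec (CommRingCat.of k))]
      infer_instance⟩
    obtain ⟨n, -, hn⟩ := AmpleX.eventually_ample_tensor hH hL
    have hB := (hn n le_rfl).1
    have hR : ∀ i, PicF.IsInvertible ((Fin.cons L fun _ => H : Fin (s + 1) → X.Modules) i) := fun i => by
      induction i using Fin.cases with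
      | zero => simpa using hL
      | succ i => simpa using hH.1
    have hle := TopInt.cohLe_structure (X := X) k hdim.le
    have h2 := h' (Fin.cons (CohB1.tensorMod (CohB1.tensorPow H n) L) fun _ => H) fun i => by
      induction i using Fin.cases with
      | zero => simpa using hB
      | succ i => simpa using hH
    rw [alt_swap, TopInt.alt_cons_mul k hR (PicMul.isInvertible_tensorPow hH.1 n) hL hle,
      Pic13Lib.alt_cons_pow hR hH.1 hle n, alt_swap k H L, hcons, h1, mul_zero, zero_add] at h2
    rw [h2, mul_zero]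

variable [PicGrp.Law X]

/-- `num` on classes. -/
def numCl {r : ℕ} (M : Fin r → X.Modules) (c : PicLoc.PicSet X) : ℤ :=
  num k M (PicGrp.exists_eq_cls c).choose

theorem numCl_cls {r : ℕ} (M : Fin r → X.Modules) {L : X.Modules} (hL : PicF.IsInvertible L) :
    numCl k M (PicGrp.cls L hL) = num k M L := by
  obtain ⟨hL', e⟩ := (PicGrp.exists_eq_cls (PicGrp.cls L hL)).choose_spec
  exact num_congr k M (congrArg Subtype.val e).symm

variable {r : ℕ} (hd : topologicalKrullDim X ≤ ((r + 1 : ℕ) : WithBot ℕ∞)) {M : Fin r → X.Modules}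
  (hM : ∀ i, PicF.IsInvertible (M i))

/-- `num` as a homomorphism. -/
def numHom : PicLoc.PicSet X →* Multiplicative ℤ :=
  MonoidHom.mk' (fun c => Multiplicative.ofAdd (numCl k M c)) fun a b => by
    obtain ⟨L, hL, rfl⟩ := PicGrp.exists_eq_cls a
    obtain ⟨L', hL', rfl⟩ := PicGrp.exists_eq_cls b
    have h : PicGrp.cls L hL * PicGrp.cls L' hL' =
        PicGrp.cls (CohB1.tensorMod L L') (PicMul.isInvertible_tensor hL hL') :=
      Subtype.ext (PicGrp.cls_mul_cls_val hL hL')
    rw [h, numCl_cls, numCl_cls, numCl_cls, num_tensor k hd hM hL hL']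
    rfl

/-- `num` on `N¹(X)`. -/
def numN1 : NumR.N1 k X →+ ℤ :=
  MonoidHom.toAdditiveLeft (QuotientGroup.lift (PicGrp.subCl (Y := X) (Pic13.IsNumEquivZero k X))
    (numHom k hd hM) ((Subgroup.closure_le _).2 (by
      rintro _ ⟨L, hL, hP, rfl⟩
      show Multiplicative.ofAdd (numCl k M (PicGrp.cls L hL)) = 1
      rw [numCl_cls, num_eq_zero_of_numTriv k hM hL hP]
      rfl)))

theorem numN1_cl {L : X.Modules} (hL : PicF.IsInvertible L) : numN1 k hd hM (NumR.cl k X L hL) = num k M L :=
  numCl_cls k M hL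

/-- `num` on real classes. -/
def numR : NumR.N1R k X →ₗ[ℝ] ℝ :=
  (LinearMap.liftBaseChange ℝ ((Int.castAddHom ℝ).comp (numN1 k hd hM)).toIntLinearMap :
    ℝ ⊗[ℤ] NumR.N1 k X →ₗ[ℝ] ℝ)

theorem numR_clR {L : X.Modules} (hL : PicF.IsInvertible L) :
    numR k hd hM (NumR.clR k X L hL) = (num k M L : ℝ) := by
  rw [← numN1_cl k hd hM hL]
  exact (LinearMap.liftBaseChange_tmul ℝ ((Int.castAddHom ℝ).comp (numN1 k hd hM)).toIntLinearMap
    (1 : ℝ) (NumR.cl k X L hL)).trans (one_smul ℝ _)

end Groth.Agent.PsefCpt
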