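import Groth.Prelude.Def_NumR
import Mathlib.Topology.Algebra.Module.FiniteDimension
import Mathlib.Topology.Algebra.Module.ModuleTopology
import Mathlib.LinearAlgebra.Dual.Lemmas
import Mathlib.RingTheory.Localization.Module

/-!
# Compactness from integral separating functionals
-/

set_option autoImplicit false
set_option linter.style.haveILetI false
set_option linter.unusedSectionVars false
set_option maxHeartbeats 1000000

universe u

open CategoryTheory AlgebraicGeometry

noncomputable section

namespace Groth.Agent.PsefCpt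

/-- Integral vectors with no common integral orthogonal express the coordinates. -/
theorem exists_coord_combination {ι : Type*} {S : Type*} [Fintype S] [DecidableEq S] (v : ι → S → ℤ)
    (h : ∀ a : S → ℤ, (∀ i, ∑ s, a s * v i s = 0) → a = 0) (s : S) :
    ∃ c : ι →₀ ℝ, ∀ r : S → ℝ, r s = c.sum fun i q => q * ∑ t, r t * (v i t : ℝ) := by
  let w : ι → S → ℚ := fun i t => (v i t : ℚ)
  have htop : Submodule.span ℚ (Set.range w) = ⊤ := by
    by_contra hne
    obtain ⟨φ, hφ, hle⟩ := Submodule.exists_le_ker_of_lt_top _ (lt_top_iff_ne_top.2 hne)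
    obtain ⟨⟨b, hb⟩, hr⟩ := IsLocalization.exist_integer_multiples (nonZeroDivisors ℤ) Finset.univ
      fun t : S => φ (Pi.single t 1)
    choose a ha using fun t => hr t (Finset.mem_univ t)
    have hb0 : (b : ℚ) ≠ 0 := Int.cast_ne_zero.2 (nonZeroDivisors.ne_zero hb)
    have ha' : ∀ t, (a t : ℚ) = b * φ (Pi.single t 1) := fun t => by
      have := ha t
      simpa [zsmul_eq_mul] using this
    have hsum : ∀ x : S → ℚ, ∑ t, (a t : ℚ) * x t = b * φ x := fun x => by
      conv_rhs => rw [pi_eq_sum_univ' x]
      simp only [map_sum, map_smul, smul_eq_mul, Finset.mul_sum]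
      exact Finset.sum_congr rfl fun t _ => by rw [ha' t]; ring
    have ha0 : a = 0 := h a fun i => by
      have h1 : φ (w i) = 0 := hle (Submodule.subset_span (Set.mem_range_self i))
      have h2 := hsum (w i)
      rw [h1, mul_zero] at h2
      simp only [w] at h2
      exact_mod_cast h2
    refine hφ (LinearMap.ext fun x => ?_)
    have h3 := hsum x
    rw [ha0] at h3
    simp only [Pi.zero_apply, Int.cast_zero, zero_mul, Finset.sum_const_zero] at h3
    exact (mul_eq_zero.1 h3.symm).resolve_left hb0
  obtain ⟨c, hc⟩ := Finsupp.mem_span_range_iff_exists_finsupp.1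
    (htop ▸ Submodule.mem_top : (Pi.single s 1 : S → ℚ) ∈ Submodule.span ℚ (Set.range w))
  refine ⟨c.mapRange (fun q : ℚ => (q : ℝ)) Rat.cast_zero, fun r => ?_⟩
  rw [Finsupp.sum_mapRange_index (fun i => zero_mul _)]
  have hs : ∀ t, (Pi.single s 1 : S → ℝ) t = c.sum fun i q => (q : ℝ) * (v i t : ℝ) := fun t => by
    have h4 := congrArg (fun q : ℚ => (q : ℝ)) (congr_fun hc t)
    simp only [Finsupp.sum, Finset.sum_apply, Pi.smul_apply, smul_eq_mul, w] at h4
    push_cast at h4
    rw [Finsupp.sum, h4]
    rcases eq_or_ne t s with e | e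
    · subst e; simp
    · simp [Pi.single_eq_of_ne e]
  calc r s = ∑ t, r t * (Pi.single s 1 : S → ℝ) t := by simp [Pi.single_apply]
    _ = ∑ t, r t * c.sum (fun i q => (q : ℝ) * (v i t : ℝ)) := Finset.sum_congr rfl fun t _ => by rw [hs t]
    _ = _ := by
      simp only [Finsupp.sum, Finset.mul_sum]
      rw [Finset.sum_comm]
      exact Finset.sum_congr rfl fun i _ => Finset.sum_congr rfl fun t _ => by ring

variable {k : Type u} [Field k] {X : Scheme.{u}} [X.Over (Spec (CommRingCat.of k))] [PicGrp.Law X]

/-- A class that is not in the way: integral functionals, non-negative on effective classes and separating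
numerical classes, make intervals in the pseudo-effective cone compact. -/
theorem isCompact_interval [Module.Finite ℝ (NumR.N1R k X)] {ι : Type*} (f : ι → NumR.N1R k X →ₗ[ℝ] ℝ)
    (hint : ∀ i (L : X.Modules) (hL : PicF.IsInvertible L), ∃ z : ℤ, f i (NumR.clR k X L hL) = (z : ℝ))
    (hnonneg : ∀ i (L : X.Modules) (hL : PicF.IsInvertible L), NumR.HasSection L →
      0 ≤ f i (NumR.clR k X L hL))
    (hsep : ∀ (L : X.Modules) (hL : PicF.IsInvertible L), (∀ i, f i (NumR.clR k X L hL) = 0) →
      Pic13.IsNumEquivZero k X L)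
    (δ : NumR.N1R k X) :
    IsCompact {δ' : NumR.N1R k X | δ' ∈ NumR.psefCone k X ∧ δ - δ' ∈ NumR.psefCone k X} := by
  classical
  have hcont : ∀ i, Continuous (f i) := fun i => IsModuleTopology.continuous_of_linearMap (f i)
  have hpsef : ∀ i, ∀ x ∈ NumR.psefCone k X, 0 ≤ f i x := fun i => by
    let P : ConvexCone ℝ (NumR.N1R k X) :=
      { carrier := {x | 0 ≤ f i x}
        smul_mem' := fun c hc x hx => by
          show 0 ≤ f i (c • x)
          rw [map_smul]
          exact mul_nonneg hc.le hx
        add_mem' := fun x hx y hy => by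
          show 0 ≤ f i (x + y)
          rw [map_add]
          exact add_nonneg hx hy }
    have h : NumR.effCone k X ≤ P := ConvexCone.hull_min fun x ⟨L, hL, hs, e⟩ => by
      show 0 ≤ f i x
      rw [e]
      exact hnonneg i L hL hs
    exact fun x hx => closure_minimal (fun y hy => h hy) (isClosed_le continuous_const (hcont i)) hx
  obtain ⟨S, hS, hspan, hli⟩ := exists_linearIndependent ℝ
    {x : NumR.N1R k X | ∃ (L : X.Modules) (hL : PicF.IsInvertible L), x = NumR.clR k X L hL}
  rw [NumR.span_clR] at hspan
  haveI : Fintype S := hli.setFinite.fintype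
  let b : Module.Basis S ℝ (NumR.N1R k X) := Module.Basis.mk hli (by rw [Subtype.range_coe, hspan])
  choose L hL hLb using fun s : S => hS s.2
  have hb : ∀ s, b s = NumR.clR k X (L s) (hL s) := fun s => (Module.Basis.mk_apply _ _ s).trans (hLb s)
  choose z hz using fun i (s : S) => hint i (L s) (hL s)
  have hf : ∀ i (r : S → ℝ), f i (b.equivFun.symm r) = ∑ t, r t * (z i t : ℝ) := fun i r => by
    rw [Module.Basis.equivFun_symm_apply, map_sum]
    exact Finset.sum_congr rfl fun t _ => by rw [map_smul, hb t, hz i t, smul_eq_mul]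
  have hindep : ∀ a : S → ℤ, (∀ i, ∑ s, a s * z i s = 0) → a = 0 := fun a ha => by
    obtain ⟨M, hM, hMe⟩ := NumR.exists_eq_cl (∑ s, a s • NumR.cl k X (L s) (hL s))
    have hclR : NumR.clR k X M hM = b.equivFun.symm fun s => (a s : ℝ) := by
      rw [Module.Basis.equivFun_symm_apply, NumR.clR_def, ← hMe, map_sum]
      simp only [map_zsmul, Int.cast_smul_eq_zsmul, hb]
      rfl
    have h0 : NumR.cl k X M hM = 0 := NumR.cl_eq_zero hM (hsep M hM fun i => by
      rw [hclR, hf]
      exact_mod_cast ha i)
    have h1 : b.equivFun.symm (fun s => (a s : ℝ)) = 0 := by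
      rw [← hclR, NumR.clR_def, h0, map_zero]
    refine funext fun s => ?_
    have h2 : (a s : ℝ) = 0 := congr_fun ((LinearEquiv.map_eq_zero_iff _).1 h1) s
    exact Int.cast_eq_zero.1 h2
  choose c hc using exists_coord_combination z hindep
  have hcoord : ∀ s x, b.equivFun x s = (c s).sum fun i q => q * f i x := fun s x => by
    rw [hc s (b.equivFun x)]
    exact Finsupp.sum_congr fun i _ => by
      have := hf i (b.equivFun x)
      rw [LinearEquiv.symm_apply_apply] at this
      rw [this]
  have hcont' : Continuous b.equivFun.symm := LinearMap.continuous_on_pi b.equivFun.symm.toLinearMap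
  let B : S → ℝ := fun s => (c s).sum fun i q => |q| * f i δ
  refine IsCompact.of_isClosed_subset
    ((isCompact_univ_pi fun s => isCompact_Icc (a := -B s) (b := B s)).image hcont') ?_ ?_
  · have hsub : Continuous fun x : NumR.N1R k X => δ - x := by
      refine ((continuous_const (y := δ)).add (continuous_const_smul (-1 : ℝ))).congr fun x => ?_
      show δ + (-1 : ℝ) • x = δ - x
      rw [neg_one_smul, sub_eq_add_neg]
    exact isClosed_closure.inter (isClosed_closure.preimage hsub)
  · rintro x ⟨hx, hx'⟩
    refine ⟨b.equivFun x, fun s _ => ?_, LinearEquiv.symm_apply_apply _ x⟩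
    have h : |b.equivFun x s| ≤ B s := by
      rw [hcoord]
      refine (Finset.abs_sum_le_sum_abs _ _).trans (Finset.sum_le_sum fun i _ => ?_)
      have h1 := hpsef i x hx
      have h2 := hpsef i (δ - x) hx'
      rw [map_sub] at h2
      rw [abs_mul, abs_of_nonneg h1]
      exact mul_le_mul_of_nonneg_left (by linarith) (abs_nonneg _)
    exact abs_le.1 h

end Groth.Agent.PsefCpt
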